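import Cfsg.Agent.Helper96.Sz8.Perm.Misc
import Cfsg.Agent.Helper96.Sz8.Perm.Perm0
import Cfsg.Agent.Helper96.Sz8.Perm.Perm1
import Cfsg.Agent.Helper96.Sz8.Perm.Perm2
import Cfsg.Agent.Helper96.Sz8.Perm.Perm3
import Cfsg.Agent.Helper96.Sz8.Perm.Perm4
import Cfsg.Agent.Helper96.Sz8.Perm.Perm5
import Cfsg.Agent.Helper96.Sz8.Perm.Perm6
import Cfsg.Agent.Helper96.Sz8.Perm.Perm7
set_option autoImplicit false
namespace Cfsg.Agent.Helper96.Sz8.Perm
open Cfsg.Agent.Helper28
theorem perm_all : ∀ r, 0 ≤ r → r < 77 → relOk ptabs (tabs.word r) 0 ptabs.n = true := by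
  intro r h1 h2
  by_cases c49 : r < 49
  · exact permRange_sound ptabs tabs.word letTr.get 12 4095 perm_eq 0 49 perm_ok_0 r (by omega) (by omega)
  by_cases c53 : r < 53
  · exact permRange_sound ptabs tabs.word letTr.get 12 4095 perm_eq 49 4 perm_ok_49 r (by omega) (by omega)
  by_cases c57 : r < 57
  · exact permRange_sound ptabs tabs.word letTr.get 12 4095 perm_eq 53 4 perm_ok_53 r (by omega) (by omega)
  by_cases c61 : r < 61
  · exact permRange_sound ptabs tabs.word letTr.get 12 4095 perm_eq 57 4 perm_ok_57 r (by omega) (by omega)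
  by_cases c65 : r < 65
  · exact permRange_sound ptabs tabs.word letTr.get 12 4095 perm_eq 61 4 perm_ok_61 r (by omega) (by omega)
  by_cases c69 : r < 69
  · exact permRange_sound ptabs tabs.word letTr.get 12 4095 perm_eq 65 4 perm_ok_65 r (by omega) (by omega)
  by_cases c73 : r < 73
  · exact permRange_sound ptabs tabs.word letTr.get 12 4095 perm_eq 69 4 perm_ok_69 r (by omega) (by omega)
  by_cases c77 : r < 77
  · exact permRange_sound ptabs tabs.word letTr.get 12 4095 perm_eq 73 4 perm_ok_73 r (by omega) (by omega)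
  omega
end Cfsg.Agent.Helper96.Sz8.Perm
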